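import Groth.Agent.Lib.Achinger25.Main
import Groth.Agent.Lib.Hens.EtaleLift

/-!
# Finite étale algebras over closed subschemes of affine space, and descent to finitely generated
subalgebras
-/

set_option autoImplicit false
universe u

open TensorProduct

namespace Groth.Agent.Achinger25

set_option maxHeartbeats 800000 in
/-- A finite étale algebra over a quotient of a polynomial ring in characteristic `p` is a quotient of a
finite étale algebra over the polynomial ring. -/
theorem exists_lift (k : Type u) [Field k] (p : ℕ) [Fact p.Prime] [CharP k p] (n : ℕ)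
    (I : Ideal (MvPolynomial (Fin n) k)) (B : Type u) [CommRing B]
    [Algebra (MvPolynomial (Fin n) k ⧸ I) B] [Module.Finite (MvPolynomial (Fin n) k ⧸ I) B]
    [Algebra.Etale (MvPolynomial (Fin n) k ⧸ I) B] :
    ∃ (C : Type u) (_ : CommRing C) (θ : MvPolynomial (Fin n) k →+* C) (φ : C →+* B),
      θ.Finite ∧ θ.Etale ∧ Function.Surjective φ ∧
      φ.comp θ = (algebraMap (MvPolynomial (Fin n) k ⧸ I) B).comp (Ideal.Quotient.mk I) := by
  classical
  let P := MvPolynomial (Fin n) k
  letI : Algebra P B := ((algebraMap (P ⧸ I) B).comp (Ideal.Quotient.mk I)).toAlgebra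
  haveI : IsScalarTower P (P ⧸ I) B := IsScalarTower.of_algebraMap_eq' (R := P) (S := P ⧸ I) (A := B) rfl
  haveI : Module.Finite P B := Module.Finite.trans (P ⧸ I) B
  obtain ⟨C, _, _, _, φ, hφ, -⟩ := Hens.exists_etale_lift P I B
  letI : Algebra k C := ((algebraMap P C).comp (algebraMap k P)).toAlgebra
  haveI : IsScalarTower k P C := IsScalarTower.of_algebraMap_eq' rfl
  haveI : Algebra.FiniteType k C := Algebra.FiniteType.trans (S := P) inferInstance inferInstance
  obtain ⟨S, hS⟩ := Algebra.FiniteType.out (R := k) (A := C)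
  let x : Fin n → C := fun i => algebraMap P C (MvPolynomial.X i)
  have hx : MvPolynomial.aeval (R := k) x = IsScalarTower.toAlgHom k P C :=
    MvPolynomial.algHom_ext fun i => (MvPolynomial.aeval_X x i).trans rfl
  have hex : ∀ z : C, ∃ q : Polynomial P, q.Monic ∧ 0 < q.degree ∧ Polynomial.aeval z q ∈ RingHom.ker φ := by
    intro z
    obtain ⟨q, hq, hq0⟩ := IsIntegral.of_finite P (φ z)
    refine ⟨Polynomial.X * q, Polynomial.monic_X.mul hq, ?_, ?_⟩
    · rcases subsingleton_or_nontrivial P with h | h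
      · exact (not_subsingleton P h).elim
      rw [Polynomial.degree_mul, Polynomial.degree_X, Polynomial.degree_eq_natDegree hq.ne_zero]
      exact_mod_cast Nat.lt_of_lt_of_le Nat.one_pos (Nat.le_add_right 1 _)
    · rw [RingHom.mem_ker, ← Polynomial.aeval_algHom_apply, map_mul]
      exact mul_eq_zero_of_right _ hq0
  choose q hq hqd hqk using hex
  let Y : Finset C := S.image fun z => Polynomial.aeval z (q z)
  have hY : ↑Y ⊆ (RingHom.ker φ : Set C) := by
    intro y hy
    obtain ⟨z, -, rfl⟩ := Finset.mem_image.1 hy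
    exact hqk z
  let A := Algebra.adjoin k (Set.range x ∪ ↑Y)
  let g : P →ₐ[k] A := MvPolynomial.aeval fun i => ⟨x i, Algebra.subset_adjoin (Or.inl ⟨i, rfl⟩)⟩
  have hg : A.val.toRingHom.comp g.toRingHom = algebraMap P C := by
    rw [← IsScalarTower.coe_toAlgHom k P C, ← hx]
    exact congrArg AlgHom.toRingHom (MvPolynomial.algHom_ext fun i => by simp [g] :
      A.val.comp g = MvPolynomial.aeval x)
  have hint : ∀ c : C, IsIntegral A c := by
    have hle : Algebra.adjoin k (S : Set C) ≤ (integralClosure A C).restrictScalars k := by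
      refine Algebra.adjoin_le fun z hz => ?_
      let w : A := ⟨Polynomial.aeval z (q z), Algebra.subset_adjoin (Or.inr (Finset.mem_image.2 ⟨z, hz, rfl⟩))⟩
      rcases subsingleton_or_nontrivial A with hA | hA
      · exact ⟨Polynomial.X, Polynomial.monic_X, by
          haveI : Subsingleton C := Module.subsingleton A C
          exact Subsingleton.elim _ _⟩
      refine ⟨(q z).map g.toRingHom - Polynomial.C w, Polynomial.Monic.sub_of_left ((hq z).map _) ?_, ?_⟩
      · rw [(hq z).degree_map]
        exact Polynomial.degree_C_le.trans_lt (hqd z)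
      · rw [Polynomial.eval₂_sub, Polynomial.eval₂_map, Polynomial.eval₂_C]
        rw [show (algebraMap A C).comp g.toRingHom = algebraMap P C from hg]
        exact sub_self _
    exact fun c => hle (hS ▸ Algebra.mem_top)
  obtain ⟨x', hx'J, hx'e, hx'f⟩ := exists_finite p (RingHom.ker φ) Y hY x (by
    rw [hx]; exact RingHom.etale_algebraMap.2 inferInstance) hint
  refine ⟨C, inferInstance, (MvPolynomial.aeval (R := k) x').toRingHom, φ.toRingHom, hx'f, hx'e, hφ, ?_⟩
  refine MvPolynomial.ringHom_ext (fun c => ?_) fun i => ?_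
  · have h1 : (MvPolynomial.aeval (R := k) x') (MvPolynomial.C c) = algebraMap P C (MvPolynomial.C c) :=
      (MvPolynomial.aeval_C x' c)
    exact (congrArg φ h1).trans (φ.commutes _)
  · have h1 : φ (x' i) = φ (x i) := sub_eq_zero.1 (by rw [← map_sub]; exact RingHom.mem_ker.1 (hx'J i))
    show φ (MvPolynomial.aeval x' (MvPolynomial.X i)) = _
    rw [MvPolynomial.aeval_X, h1]
    exact φ.commutes _

variable (F : Type u) [CommRing F] (A B : Type u) [CommRing A] [CommRing B] [Algebra F A] [Algebra A B]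

set_option maxHeartbeats 800000 in
/-- A finite étale algebra descends to a finite étale algebra over a finitely generated subalgebra. -/
theorem exists_fg_descent [Module.Finite A B] [Algebra.Etale A B] :
    ∃ (A₁ : Subalgebra F A) (B₁ : Type u) (_ : CommRing B₁) (_ : Algebra A₁ B₁),
      A₁.FG ∧ Module.Finite A₁ B₁ ∧ Algebra.Etale A₁ B₁ ∧
      ∃ j : B₁ →+* B, j.comp (algebraMap A₁ B₁) = (algebraMap A B).comp A₁.val.toRingHom ∧
        Submodule.span A (Set.range j) = ⊤ := by
  classical
  obtain ⟨A₀, B₀, _, _, hA₀, _, ⟨e⟩⟩ := Algebra.Etale.exists_subalgebra_fg (R := F) (A := A) (B := B)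
  obtain ⟨S, hS⟩ := Algebra.FiniteType.out (R := A₀) (A := B₀)
  haveI : Module.Finite A (A ⊗[A₀] B₀) := Module.Finite.equiv e.toLinearEquiv
  have hex : ∀ y : B₀, IsIntegral A ((1 : A) ⊗ₜ[A₀] y) := fun y => IsIntegral.of_finite A _
  choose f hf hf0 using hex
  let T : Subalgebra F A := Algebra.adjoin F ↑(S.biUnion fun y => (f y).coeffs)
  let A₁ := A₀ ⊔ T
  letI : Algebra A₀ A₁ := (Subalgebra.inclusion (le_sup_left : A₀ ≤ A₁)).toRingHom.toAlgebra
  let incl : A₁ →ₐ[A₀] A := { A₁.val.toRingHom with commutes' := fun a => rfl }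
  let i : A₁ ⊗[A₀] B₀ →ₐ[A₀] A ⊗[A₀] B₀ := Algebra.TensorProduct.map incl (AlgHom.id A₀ B₀)
  have hi : Function.Injective i :=
    Module.Flat.rTensor_preserves_injective_linearMap (M := B₀) incl.toLinearMap Subtype.val_injective
  have hcomp : i.toRingHom.comp (algebraMap A₁ (A₁ ⊗[A₀] B₀)) =
      (algebraMap A (A ⊗[A₀] B₀)).comp A₁.val.toRingHom := by
    refine RingHom.ext fun a => ?_
    show i (a ⊗ₜ[A₀] (1 : B₀)) = (A₁.val a) ⊗ₜ[A₀] (1 : B₀)
    exact Algebra.TensorProduct.map_tmul incl (AlgHom.id A₀ B₀) a 1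
  have hint : Algebra.IsIntegral A₁ (A₁ ⊗[A₀] B₀) := by
    have hle : Algebra.adjoin A₀ (S : Set B₀) ≤
        ((integralClosure A₁ (A₁ ⊗[A₀] B₀)).restrictScalars A₀).comap Algebra.TensorProduct.includeRight := by
      refine Algebra.adjoin_le fun y hy => ?_
      have hl : f y ∈ Polynomial.lifts A₁.val.toRingHom := by
        rw [Polynomial.lifts_iff_coeff_lifts]
        intro m
        by_cases h0 : (f y).coeff m = 0
        · exact ⟨0, by rw [map_zero, h0]⟩
        · exact ⟨⟨(f y).coeff m, (le_sup_right : T ≤ A₁) (Algebra.subset_adjoin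
            (Finset.mem_biUnion.2 ⟨y, hy, Polynomial.coeff_mem_coeffs h0⟩))⟩, rfl⟩
      rcases subsingleton_or_nontrivial A with hA | hA
      · haveI : Subsingleton A₁ := Subtype.val_injective.subsingleton
        haveI : Subsingleton (A₁ ⊗[A₀] B₀) := Module.subsingleton A₁ _
        exact ⟨Polynomial.X, Polynomial.monic_X, Subsingleton.elim _ _⟩
      obtain ⟨r, hr1, -, hr3⟩ := Polynomial.lifts_and_degree_eq_and_monic hl (hf y)
      refine ⟨r, hr3, hi ?_⟩
      rw [map_zero]
      refine (Polynomial.hom_eval₂ r _ i.toRingHom _).trans ?_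
      rw [hcomp, ← Polynomial.eval₂_map, hr1]
      exact (congrArg (fun t => (f y).eval₂ _ t)
        (show i ((1 : A₁) ⊗ₜ[A₀] y) = (1 : A) ⊗ₜ[A₀] y from
          (Algebra.TensorProduct.map_tmul incl (AlgHom.id A₀ B₀) 1 y).trans (by rw [map_one]; rfl))).trans (hf0 y)
    refine ⟨fun z => ?_⟩
    induction z using TensorProduct.induction_on with
    | zero => exact isIntegral_zero
    | add a b ha hb => exact ha.add hb
    | tmul a y =>
      have hy : IsIntegral A₁ ((1 : A₁) ⊗ₜ[A₀] y) := hle (hS ▸ Algebra.mem_top)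
      have := (isIntegral_algebraMap (A := A₁ ⊗[A₀] B₀) (x := a)).mul hy
      rwa [Algebra.TensorProduct.algebraMap_apply, Algebra.TensorProduct.tmul_mul_tmul, Algebra.algebraMap_self,
        RingHom.id_apply, mul_one, one_mul] at this
  haveI := hint
  haveI : Module.Finite A₁ (A₁ ⊗[A₀] B₀) := Algebra.IsIntegral.finite
  refine ⟨A₁, A₁ ⊗[A₀] B₀, inferInstance, inferInstance, hA₀.sup (Subalgebra.fg_adjoin_finset _),
    inferInstance, inferInstance, e.symm.toRingEquiv.toRingHom.comp i.toRingHom, ?_, ?_⟩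
  · rw [RingHom.comp_assoc, hcomp]
    exact RingHom.ext fun a => e.symm.commutes _
  · refine top_unique fun b _ => ?_
    rw [← e.symm_apply_apply b]
    induction e b using TensorProduct.induction_on with
    | zero => rw [map_zero]; exact zero_mem _
    | add a c ha hc => rw [map_add]; exact add_mem ha hc
    | tmul a y =>
      rw [show a ⊗ₜ[A₀] y = a • ((1 : A) ⊗ₜ[A₀] y) by rw [TensorProduct.smul_tmul', smul_eq_mul, mul_one],
        map_smul]
      refine Submodule.smul_mem _ _ (Submodule.subset_span ⟨(1 : A₁) ⊗ₜ[A₀] y, ?_⟩)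
      exact congrArg e.symm ((Algebra.TensorProduct.map_tmul incl (AlgHom.id A₀ B₀) 1 y).trans (by rw [map_one]; rfl))

end Groth.Agent.Achinger25
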