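import Mathlib

/-!
# Achinger's lemma: étale algebras over affine space in characteristic `p` are finite étale for
some other map
-/

set_option autoImplicit false
universe u

open KaehlerDifferential TensorProduct

namespace Groth.Agent.Achinger25

variable {k : Type u} [Field k] {C : Type u} [CommRing C] [Algebra k C] {n : ℕ}

/-- An element satisfying a nontrivial relation with `x'_j + y^{N^{j+1}}` is integral over `x'`. -/
theorem isIntegralElem_of_relation (x' : Fin n → C) (y : C) (Q : MvPolynomial (Fin (n + 1)) k) (hQ : Q ≠ 0) (N : ℕ)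
    (hN : ∀ d ∈ Q.support, ∀ i, d i < N)
    (h : MvPolynomial.aeval (Fin.cons y fun j => y ^ (N ^ ((j : ℕ) + 1)) + x' j) Q = 0) :
    (MvPolynomial.aeval (R := k) x').toRingHom.IsIntegralElem y := by
  classical
  let P := MvPolynomial (Fin n) k
  let θ : P →ₐ[k] C := MvPolynomial.aeval x'
  let s : Fin (n + 1) → Polynomial P :=
    Fin.cons Polynomial.X fun j => Polynomial.X ^ (N ^ ((j : ℕ) + 1)) + Polynomial.C (MvPolynomial.X j)
  have hN0 : 0 < N := by
    obtain ⟨d, hd⟩ := MvPolynomial.support_nonempty.2 hQ
    exact lt_of_le_of_lt (Nat.zero_le _) (hN d hd 0)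
  have hs : ∀ i, (s i).Monic ∧ (s i).natDegree = N ^ (i : ℕ) := by
    intro i
    refine Fin.cases ?_ (fun j => ?_) i
    · simp [s, Polynomial.monic_X]
    · simp only [s, Fin.cons_succ, Fin.val_succ]
      exact ⟨Polynomial.monic_X_pow_add_C _ (pow_pos hN0 _).ne', Polynomial.natDegree_X_pow_add_C⟩
  let w : (Fin (n + 1) →₀ ℕ) → ℕ := fun d => ∑ i, d i * N ^ (i : ℕ)
  have hwinj : ∀ d ∈ Q.support, ∀ d' ∈ Q.support, w d = w d' → d = d' := by
    intro d hd d' hd' he
    have h1 : (finFunctionFinEquiv fun i => (⟨d i, hN d hd i⟩ : Fin N)) =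
        finFunctionFinEquiv fun i => ⟨d' i, hN d' hd' i⟩ :=
      Fin.ext (by simpa [finFunctionFinEquiv_apply, w] using he)
    exact Finsupp.ext fun i => congrArg Fin.val (congrFun (finFunctionFinEquiv.injective h1) i)
  let m : (Fin (n + 1) →₀ ℕ) → Polynomial P := fun d => ∏ i, s i ^ d i
  have hm : ∀ d, (m d).Monic ∧ (m d).natDegree = w d := by
    intro d
    refine ⟨Polynomial.monic_prod_of_monic _ _ fun i _ => (hs i).1.pow _, ?_⟩
    rw [Polynomial.natDegree_prod_of_monic _ _ fun i _ => (hs i).1.pow _]
    exact Finset.sum_congr rfl fun i _ => by rw [(hs i).1.natDegree_pow, (hs i).2]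
  let q : Polynomial P := MvPolynomial.aeval s Q
  have hq : q = ∑ d ∈ Q.support, Polynomial.C (algebraMap k P (MvPolynomial.coeff d Q)) * m d := by
    simp only [q, MvPolynomial.aeval_def, MvPolynomial.eval₂_eq', m]
    rfl
  obtain ⟨d₀, hd₀, hmax⟩ := Q.support.exists_max_image w (MvPolynomial.support_nonempty.2 hQ)
  have hdeg : q.natDegree ≤ w d₀ := by
    rw [hq]
    refine Polynomial.natDegree_sum_le_of_forall_le _ _ fun d hd => ?_
    exact (Polynomial.natDegree_C_mul_le _ _).trans ((hm d).2.trans_le (hmax d hd))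
  have hcoeff : q.coeff (w d₀) = algebraMap k P (MvPolynomial.coeff d₀ Q) := by
    rw [hq, Polynomial.finsetSum_coeff, Finset.sum_eq_single d₀]
    · rw [Polynomial.coeff_C_mul, ← (hm d₀).2, (hm d₀).1.coeff_natDegree, mul_one]
    · intro d hd hne
      rw [Polynomial.coeff_C_mul, Polynomial.coeff_eq_zero_of_natDegree_lt, mul_zero]
      rw [(hm d).2]
      exact lt_of_le_of_ne (hmax d hd) fun he => hne (hwinj d hd d₀ hd₀ he)
    · exact fun hn => absurd hd₀ hn
  have heval : q.eval₂ θ.toRingHom y = 0 := by
    have : (Polynomial.eval₂RingHom θ.toRingHom y).comp (MvPolynomial.aeval (R := k) s).toRingHom =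
        (MvPolynomial.aeval (R := k) (Fin.cons y fun j => y ^ (N ^ ((j : ℕ) + 1)) + x' j)).toRingHom := by
      refine MvPolynomial.ringHom_ext (fun c => ?_) fun i => ?_
      · simp [θ, Polynomial.C_eq_algebraMap, IsScalarTower.algebraMap_apply k P (Polynomial P)]
      · refine Fin.cases ?_ (fun j => ?_) i
        · simp [s]
        · simp [s, θ]
          exact MvPolynomial.aeval_X _ _
    exact (RingHom.congr_fun this Q).trans h
  have hc : MvPolynomial.coeff d₀ Q ≠ 0 := MvPolynomial.mem_support_iff.1 hd₀
  refine ⟨Polynomial.C (algebraMap k P (MvPolynomial.coeff d₀ Q)⁻¹) * q, ?_, ?_⟩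
  · refine Polynomial.monic_of_natDegree_le_of_coeff_eq_one (w d₀) ((Polynomial.natDegree_C_mul_le _ _).trans hdeg) ?_
    rw [Polynomial.coeff_C_mul, hcoeff, ← map_mul, inv_mul_cancel₀ hc, map_one]
  · exact (Polynomial.eval₂_mul _ _).trans (by rw [heval, mul_zero])

set_option maxHeartbeats 400000 in
/-- Any element of an étale algebra over affine space is algebraically dependent on the coordinates. -/
theorem exists_relation (x : Fin n → C) (hx : (MvPolynomial.aeval (R := k) x).toRingHom.Etale) (y : C) :
    ∃ Q : MvPolynomial (Fin (n + 1)) k, Q ≠ 0 ∧ MvPolynomial.aeval (Fin.cons y x) Q = 0 := by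
  classical
  let P := MvPolynomial (Fin n) k
  letI : Algebra P C := (MvPolynomial.aeval (R := k) x).toRingHom.toAlgebra
  haveI : Algebra.Etale P C := hx
  haveI : IsScalarTower k P C := IsScalarTower.of_algebraMap_eq fun c => ((MvPolynomial.aeval x).commutes c).symm
  let K := FractionRing P
  haveI : Module.Finite K (K ⊗[P] C) := Algebra.FormallyUnramified.finite_of_free K _
  obtain ⟨p, hp, hp0⟩ := IsIntegral.of_finite K (Algebra.TensorProduct.includeRight (R := P) (A := K) y)
  let q := IsLocalization.integerNormalization (nonZeroDivisors P) p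
  have hq : q ≠ 0 := fun h => hp.ne_zero (IsFractionRing.integerNormalization_eq_zero_iff.1 h)
  have hq0 : Algebra.TensorProduct.includeRight (R := P) (A := K) (Polynomial.aeval y q) = 0 := by
    rw [← Polynomial.aeval_algHom_apply]
    exact IsLocalization.integerNormalization_aeval_eq_zero (nonZeroDivisors P) p hp0
  haveI : IsLocalizedModule (nonZeroDivisors P) (TensorProduct.mk P K C 1) :=
    (isLocalizedModule_iff_isBaseChange (nonZeroDivisors P) K _).2 (TensorProduct.isBaseChange P C K)
  obtain ⟨g, hg⟩ := (IsLocalizedModule.eq_zero_iff (nonZeroDivisors P) (TensorProduct.mk P K C 1)).1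
    (show (TensorProduct.mk P K C 1) (Polynomial.aeval y q) = 0 from hq0)
  refine ⟨(MvPolynomial.finSuccEquiv k n).symm (Polynomial.C (g : P) * q), ?_, ?_⟩
  · rw [ne_eq, map_eq_zero_iff _ (MvPolynomial.finSuccEquiv k n).symm.injective, mul_eq_zero, not_or]
    exact ⟨fun h => nonZeroDivisors.ne_zero g.2 (Polynomial.C_eq_zero.1 h), hq⟩
  · have hcomp : ((Polynomial.aeval y).restrictScalars k).comp (MvPolynomial.finSuccEquiv k n).toAlgHom =
        MvPolynomial.aeval (R := k) (Fin.cons y x) := by
      refine MvPolynomial.algHom_ext fun i => ?_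
      refine Fin.cases ?_ (fun j => ?_) i
      · simp [MvPolynomial.finSuccEquiv_X_zero]
      · simp [MvPolynomial.finSuccEquiv_X_succ, RingHom.algebraMap_toAlgebra]
    rw [← hcomp, AlgHom.comp_apply, AlgEquiv.coe_algHom, AlgEquiv.apply_symm_apply, AlgHom.restrictScalars_apply,
      map_mul, Polynomial.aeval_C, ← Algebra.smul_def]
    exact hg

/-- Bijectivity of the cotangent base change in terms of the differentials of the coordinates. -/
theorem bijective_mapBaseChange_iff [Algebra (MvPolynomial (Fin n) k) C] [IsScalarTower k (MvPolynomial (Fin n) k) C] :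
    Function.Bijective (mapBaseChange k (MvPolynomial (Fin n) k) C) ↔
      Function.Bijective (Fintype.linearCombination C fun i => D k C (algebraMap (MvPolynomial (Fin n) k) C (MvPolynomial.X i))) := by
  classical
  let P := MvPolynomial (Fin n) k
  let b := Algebra.TensorProduct.basis C (mvPolynomialBasis k (Fin n))
  have hb : ∀ i, b i = 1 ⊗ₜ D k P (MvPolynomial.X i) := by
    intro i
    rw [Algebra.TensorProduct.basis_apply]
    congr 1
    apply (mvPolynomialBasis k (Fin n)).repr.injective
    rw [Module.Basis.repr_self, mvPolynomialBasis_repr_D, MvPolynomial.mkDerivation_X]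
  have he : (mapBaseChange k P C).comp b.equivFun.symm.toLinearMap =
      Fintype.linearCombination C fun i => D k C (algebraMap P C (MvPolynomial.X i)) := by
    refine (Pi.basisFun C (Fin n)).ext fun i => ?_
    have h1 : b.equivFun.symm (Pi.single i 1) = b i := by
      rw [LinearEquiv.symm_apply_eq, Module.Basis.equivFun_apply, Module.Basis.repr_self, Finsupp.single_eq_pi_single]
    rw [Pi.basisFun_apply, LinearMap.comp_apply, LinearEquiv.coe_coe, h1, hb, mapBaseChange_tmul, map_D, one_smul,
      Fintype.linearCombination_apply_single, one_smul]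
  rw [← he, LinearMap.coe_comp, LinearEquiv.coe_coe]
  exact (Function.Bijective.of_comp_iff _ b.equivFun.symm.bijective).symm

set_option maxHeartbeats 400000 in
/-- Changing the coordinates without changing their differentials keeps the map étale. -/
theorem etale_of_D_eq (x x' : Fin n → C) (hx : (MvPolynomial.aeval (R := k) x).toRingHom.Etale)
    (h : ∀ i, D k C (x' i) = D k C (x i)) : (MvPolynomial.aeval (R := k) x').toRingHom.Etale := by
  let P := MvPolynomial (Fin n) k
  have hbase : Function.Bijective (Fintype.linearCombination C fun i => D k C (x i)) ∧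
      Algebra.FormallySmooth k C ∧ Algebra.FiniteType k C := by
    letI : Algebra P C := (MvPolynomial.aeval (R := k) x).toRingHom.toAlgebra
    haveI : Algebra.Etale P C := hx
    haveI : IsScalarTower k P C := IsScalarTower.of_algebraMap_eq fun c => ((MvPolynomial.aeval x).commutes c).symm
    refine ⟨?_, Algebra.FormallySmooth.comp k P C, Algebra.FiniteType.trans (S := P) inferInstance inferInstance⟩
    have := (bijective_mapBaseChange_iff (k := k) (C := C) (n := n)).1
      (tensorKaehlerEquivOfFormallyEtale k P C).bijective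
    simpa [RingHom.algebraMap_toAlgebra] using this
  obtain ⟨hbij, hfs, hft⟩ := hbase
  letI : Algebra P C := (MvPolynomial.aeval (R := k) x').toRingHom.toAlgebra
  haveI : IsScalarTower k P C := IsScalarTower.of_algebraMap_eq fun c => ((MvPolynomial.aeval x').commutes c).symm
  haveI : Algebra.FiniteType P C := Algebra.FiniteType.of_restrictScalars_finiteType k P C
  have hb' : Function.Bijective (mapBaseChange k P C) := by
    refine bijective_mapBaseChange_iff.2 ?_
    simpa [RingHom.algebraMap_toAlgebra, h] using hbij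
  have hΩ : Subsingleton Ω[C⁄P] := by
    refine subsingleton_of_forall_eq 0 fun v => ?_
    obtain ⟨u, rfl⟩ := map_surjective k P C v
    exact (exact_mapBaseChange_map k P C u).2 (hb'.2 u)
  have hH : Subsingleton (Algebra.H1Cotangent P C) := by
    haveI := hfs
    refine subsingleton_of_forall_eq 0 fun z => ?_
    have h0 : Algebra.H1Cotangent.δ k P C z = 0 :=
      hb'.1 (((Algebra.H1Cotangent.exact_δ_mapBaseChange k P C _).2 ⟨z, rfl⟩).trans (map_zero _).symm)
    obtain ⟨z', hz'⟩ := (Algebra.H1Cotangent.exact_map_δ k P C z).1 h0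
    rw [← hz', Subsingleton.elim z' 0, map_zero]
  haveI : Algebra.FormallyEtale P C := ⟨hΩ, hH⟩
  exact ⟨inferInstance, Algebra.FinitePresentation.of_finiteType.1 inferInstance⟩

/-- Integrality over subalgebras is transitive. -/
theorem isIntegral_of_le_integralClosure (A A' : Subalgebra k C) (hA' : A' ≤ (integralClosure A C).restrictScalars k)
    (c : C) (hc : IsIntegral A' c) : IsIntegral A c := by
  let I := integralClosure A C
  have h1 : IsIntegral I c := by
    obtain ⟨p, hp, hp0⟩ := hc
    let j : A' →+* I := (Subalgebra.inclusion hA').toRingHom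
    exact ⟨p.map j, hp.map j, by rw [Polynomial.eval₂_map]; exact hp0⟩
  exact isIntegral_trans c h1

set_option maxHeartbeats 400000 in
/-- Achinger's lemma. -/
theorem exists_finite (p : ℕ) [Fact p.Prime] [CharP k p] (J : Ideal C) (Y : Finset C) (hY : ↑Y ⊆ (J : Set C))
    (x : Fin n → C) (hx : (MvPolynomial.aeval (R := k) x).toRingHom.Etale)
    (hint : ∀ c : C, IsIntegral (Algebra.adjoin k (Set.range x ∪ ↑Y)) c) :
    ∃ x' : Fin n → C, (∀ i, x' i - x i ∈ J) ∧ (MvPolynomial.aeval (R := k) x').toRingHom.Etale ∧
      (MvPolynomial.aeval (R := k) x').toRingHom.Finite := by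
  classical
  induction Y using Finset.induction generalizing x with
  | empty =>
    refine ⟨x, fun i => by simp, hx, RingHom.IsIntegral.to_finite ?_ (by
      letI := (MvPolynomial.aeval (R := k) x).toRingHom.toAlgebra
      haveI : Algebra.Etale (MvPolynomial (Fin n) k) C := hx
      exact (inferInstance : Algebra.FiniteType (MvPolynomial (Fin n) k) C))⟩
    intro c
    rcases subsingleton_or_nontrivial C with hC | hC
    · exact ⟨Polynomial.X, Polynomial.monic_X, Subsingleton.elim _ _⟩
    obtain ⟨q, hq, hq0⟩ := hint c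
    have hr : Algebra.adjoin k (Set.range x ∪ ↑(∅ : Finset C)) = (MvPolynomial.aeval (R := k) x).range := by
      rw [Finset.coe_empty, Set.union_empty, Algebra.adjoin_range_eq_range_aeval]
    have hlift : q.map (Algebra.adjoin k (Set.range x ∪ ↑(∅ : Finset C))).val.toRingHom ∈
        Polynomial.lifts (MvPolynomial.aeval (R := k) x).toRingHom := by
      rw [Polynomial.lifts_iff_coeff_lifts]
      intro i
      rw [Polynomial.coeff_map]
      exact (hr ▸ (q.coeff i).2 : ((q.coeff i : C)) ∈ (MvPolynomial.aeval (R := k) x).range)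
    obtain ⟨r, hr1, -, hr3⟩ := Polynomial.lifts_and_degree_eq_and_monic hlift (hq.map _)
    refine ⟨r, hr3, ?_⟩
    rw [← Polynomial.eval_map, hr1, Polynomial.eval_map]
    exact hq0
  | insert y Y _ ih =>
    rw [Finset.coe_insert, Set.insert_subset_iff] at hY
    obtain ⟨Q, hQ, hQ0⟩ := exists_relation x hx y
    let N := p ^ ((Q.support.sup fun d => Finset.univ.sup fun i => d i) + 1)
    have hp1 : 1 < p := (Fact.out : p.Prime).one_lt
    have hN : ∀ d ∈ Q.support, ∀ i, d i < N := fun d hd i => by
      have h1 : d i ≤ Q.support.sup fun d => Finset.univ.sup fun i => d i :=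
        (Finset.le_sup (f := fun i => d i) (Finset.mem_univ i)).trans (Finset.le_sup (f := fun d => Finset.univ.sup fun i => d i) hd)
      exact (Nat.lt_succ_of_le h1).trans (Nat.lt_pow_self hp1)
    let x' : Fin n → C := fun j => x j - y ^ (N ^ ((j : ℕ) + 1))
    have hxJ : ∀ j, x' j - x j ∈ J := fun j => by
      simp only [x', sub_sub_cancel_left]
      exact J.neg_mem (J.pow_mem_of_mem hY.1 _ (pow_pos (pow_pos (by omega) _) _))
    have hD : ∀ j, D k C (x' j) = D k C (x j) := fun j => by
      have hN' : ((N ^ ((j : ℕ) + 1) : ℕ) : k) = 0 := by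
        simp [N, CharP.cast_eq_zero]
      simp only [x', map_sub, Derivation.leibniz_pow, sub_eq_self]
      rw [← Nat.cast_smul_eq_nsmul k, hN', zero_smul]
    have hx' := etale_of_D_eq x x' hx hD
    let A := Algebra.adjoin k (Set.range x' ∪ ↑Y)
    have hy : IsIntegral A y := by
      obtain ⟨q, hq, hq0⟩ := isIntegralElem_of_relation x' y Q hQ N hN (by
        rw [show (fun j : Fin n => y ^ (N ^ ((j : ℕ) + 1)) + x' j) = x from funext fun j => add_sub_cancel _ _]
        exact hQ0)
      let g : MvPolynomial (Fin n) k →ₐ[k] A := MvPolynomial.aeval fun i =>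
        ⟨x' i, Algebra.subset_adjoin (Or.inl ⟨i, rfl⟩)⟩
      have hg : A.val.comp g = MvPolynomial.aeval x' := MvPolynomial.algHom_ext fun i => by simp [g]
      exact ⟨q.map g.toRingHom, hq.map _, by rw [Polynomial.eval₂_map, ← hq0, ← hg]; rfl⟩
    obtain ⟨x'', h1, h2, h3⟩ := ih hY.2 x' hx' fun c => isIntegral_of_le_integralClosure A _ (by
      rw [Algebra.adjoin_le_iff]
      rintro z (⟨j, rfl⟩ | hz)
      · show IsIntegral A (x j)
        rw [show x j = y ^ (N ^ ((j : ℕ) + 1)) + x' j from (add_sub_cancel _ _).symm]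
        exact (hy.pow _).add (isIntegral_algebraMap (x := (⟨x' j, Algebra.subset_adjoin (Or.inl ⟨j, rfl⟩)⟩ : A)))
      · rw [Finset.coe_insert] at hz
        rcases hz with rfl | hz
        · exact hy
        · exact isIntegral_algebraMap (x := (⟨z, Algebra.subset_adjoin (Or.inr hz)⟩ : A))) c (hint c)
    exact ⟨x'', fun i => by simpa using J.add_mem (h1 i) (hxJ i), h2, h3⟩

end Groth.Agent.Achinger25
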